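import Groth.Agent.SymGraded.Basic
import Mathlib.RingTheory.LocalRing.ResidueField.Ideal
import Mathlib.RingTheory.IntegralDomain

/-! Primes of the invariants extend to the graded algebra of tensors. -/

set_option autoImplicit false
universe u

open scoped TensorProduct

namespace Groth.Agent.SymGraded

variable {A B : Type u} [CommRing A] [CommRing B] [Algebra A B]
  {𝒜 : ℕ → Submodule A B} [GradedAlgebra 𝒜] {d : ℕ}

theorem perm_mem {σ : Equiv.Perm (Fin d)} {t : ⨂[A] _ : Fin d, B} (ht : t ∈ diagAlg 𝒜 d) :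
    SymTen.perm A B d σ t ∈ diagAlg 𝒜 d := by
  induction ht using Algebra.adjoin_induction with
  | mem t ht =>
    obtain ⟨k, b, hb, rfl⟩ := ht
    rw [SymTen.perm_tprod]
    exact (pureT 𝒜 d _ fun i => hb (σ.symm i)).2
  | algebraMap r => rw [AlgHom.commutes]; exact Subalgebra.algebraMap_mem _ r
  | add x y _ _ hx hy => rw [map_add]; exact add_mem hx hy
  | mul x y _ _ hx hy => rw [map_mul]; exact mul_mem hx hy

theorem perm_mul (σ τ : Equiv.Perm (Fin d)) (t : ⨂[A] _ : Fin d, B) :
    SymTen.perm A B d σ (SymTen.perm A B d τ t) = SymTen.perm A B d (σ * τ) t := by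
  induction t using PiTensorProduct.induction_on with
  | smul_tprod r f =>
    simp only [map_smul, SymTen.perm_tprod]
    rfl
  | add x y hx hy => simp only [map_add, hx, hy]

theorem isIntegral_inclusion {D : Subalgebra A (⨂[A] _ : Fin d, B)}
    (hD : D = diagAlg 𝒜 d ⊓ SymTen.TS A B d) :
    (Subalgebra.inclusion (hD.le.trans inf_le_left)).toRingHom.IsIntegral := by
  classical
  intro x
  let s : Equiv.Perm (Fin d) → diagAlg 𝒜 d := fun σ => ⟨SymTen.perm A B d σ x.1, perm_mem x.2⟩
  let p : Polynomial (diagAlg 𝒜 d) := ∏ σ, (Polynomial.X - Polynomial.C (s σ))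
  let ι := Subalgebra.inclusion (hD.le.trans inf_le_left : D ≤ diagAlg 𝒜 d)
  have hfix : ∀ m, ((p.coeff m : diagAlg 𝒜 d) : ⨂[A] _ : Fin d, B) ∈ SymTen.TS A B d := by
    intro m τ
    rw [← SymTen.perm_apply]
    have e1 : (p.map (diagAlg 𝒜 d).val.toRingHom).map (SymTen.perm A B d τ).toRingHom =
        p.map (diagAlg 𝒜 d).val.toRingHom := by
      simp only [p, Polynomial.map_prod, Polynomial.map_sub, Polynomial.map_X, Polynomial.map_C]
      refine Fintype.prod_equiv (Equiv.mulLeft τ) _ _ fun σ => ?_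
      show Polynomial.X - Polynomial.C (SymTen.perm A B d τ (SymTen.perm A B d σ x.1)) = _
      rw [perm_mul]
      rfl
    have := congrArg (Polynomial.coeff · m) e1
    simpa using this
  have hl : p ∈ Polynomial.lifts ι.toRingHom := (Polynomial.lifts_iff_coeff_lifts p).2 fun m =>
    ⟨⟨(p.coeff m : ⨂[A] _ : Fin d, B), hD.ge ⟨(p.coeff m).2, hfix m⟩⟩, Subtype.ext rfl⟩
  obtain ⟨q, hq⟩ := (Polynomial.mem_lifts p).1 hl
  have hinj : Function.Injective ι.toRingHom := Subalgebra.inclusion_injective _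
  refine ⟨q, Polynomial.monic_of_injective hinj (hq ▸ Polynomial.monic_prod_X_sub_C s _), ?_⟩
  rw [← Polynomial.eval_map]
  show Polynomial.eval x (q.map ι.toRingHom) = 0
  rw [hq]
  refine (Polynomial.eval_prod _ _ _).trans (Finset.prod_eq_zero (Finset.mem_univ 1) ?_)
  have : s 1 = x := Subtype.ext (by
    show SymTen.perm A B d 1 x.1 = x.1
    have h1 : ∀ t, SymTen.perm A B d 1 t = t := fun t => by
      induction t using PiTensorProduct.induction_on with
      | smul_tprod r f =>
        simp only [map_smul, SymTen.perm_tprod]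
        rfl
      | add a b ha hb => simp [ha, hb]
    exact h1 _)
  simp [this]

/-- A point of the graded tensor algebra killing a given ideal of invariants and not a given invariant. -/
theorem exists_point {D : Subalgebra A (⨂[A] _ : Fin d, B)} (hD : D = diagAlg 𝒜 d ⊓ SymTen.TS A B d)
    (J : Ideal D) (t : D) (h : ∀ m : ℕ, 0 < m → t ^ m ∉ J) :
    ∃ (R : Type u) (_ : CommRing R) (_ : IsDomain R) (_ : Algebra A R) (χ : diagAlg 𝒜 d →ₐ[A] R),
      (∀ x ∈ J, χ (Subalgebra.inclusion (hD.le.trans inf_le_left) x) = 0) ∧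
        χ (Subalgebra.inclusion (hD.le.trans inf_le_left) t) ≠ 0 := by
  have hrad : t ∉ J.radical := fun ⟨m, hm⟩ => by
    rcases Nat.eq_zero_or_pos m with rfl | hm0
    · rw [pow_zero] at hm
      exact h 1 one_pos (by rw [(Ideal.eq_top_iff_one J).2 hm]; exact Submodule.mem_top)
    · exact h m hm0 hm
  rw [Ideal.radical_eq_sInf, Submodule.mem_sInf] at hrad
  push Not at hrad
  obtain ⟨P, ⟨hJP, hP⟩, htP⟩ := hrad
  let ι := Subalgebra.inclusion (hD.le.trans inf_le_left : D ≤ diagAlg 𝒜 d)
  letI : Algebra D (diagAlg 𝒜 d) := ι.toRingHom.toAlgebra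
  haveI : Algebra.IsIntegral D (diagAlg 𝒜 d) := ⟨isIntegral_inclusion hD⟩
  haveI := hP
  have hker : RingHom.ker (algebraMap D (diagAlg 𝒜 d)) ≤ P := by
    rw [(RingHom.injective_iff_ker_eq_bot (algebraMap D (diagAlg 𝒜 d))).1 (Subalgebra.inclusion_injective _)]
    exact bot_le
  obtain ⟨Q, -, hQ, hQP⟩ := Ideal.exists_ideal_over_prime_of_isIntegral P (⊥ : Ideal (diagAlg 𝒜 d)) hker
  haveI := hQ
  refine ⟨diagAlg 𝒜 d ⧸ Q, inferInstance, Ideal.Quotient.isDomain Q, inferInstance, Ideal.Quotient.mkₐ A Q,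
    fun x hx => ?_, fun h0 => htP ?_⟩
  · rw [Ideal.Quotient.mkₐ_eq_mk, Ideal.Quotient.eq_zero_iff_mem]
    have : x ∈ P := hJP hx
    rwa [← hQP] at this
  · rw [Ideal.Quotient.mkₐ_eq_mk, Ideal.Quotient.eq_zero_iff_mem] at h0
    rw [← hQP]
    exact h0

/-- The sum of the tensors with a given multiset of indices is invariant. -/
theorem orbitSum_mem {b : Fin d → B} (hb : ∀ i, b i ∈ 𝒜 1) (e : Fin d →₀ ℕ) :
    (∑ f ∈ Finset.univ.filter (fun f : Fin d → Fin d => ∑ i, Finsupp.single (f i) 1 = e),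
      PiTensorProduct.tprod A (fun i => b (f i))) ∈ diagAlg 𝒜 d ⊓ SymTen.TS A B d := by
  classical
  refine ⟨Subalgebra.sum_mem _ fun f _ => (pureT 𝒜 d _ fun i => hb (f i)).2, fun σ => ?_⟩
  rw [map_sum]
  simp only [PiTensorProduct.reindex_tprod]
  refine Finset.sum_equiv (Equiv.arrowCongr σ (Equiv.refl _)) (fun f => ?_) fun f _ => rfl
  simp only [Finset.mem_filter, Finset.mem_univ, true_and, Equiv.arrowCongr_apply, Equiv.coe_refl,
    Function.id_comp, Function.comp_apply]
  simp only [id_eq]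
  rw [Equiv.sum_comp σ.symm (fun i => Finsupp.single (f i) 1)]

/-- Some degree-one orbit sum is nonzero at a point with a nonzero degree-one tensor. -/
theorem exists_orbitSum_ne_zero {R : Type u} [CommRing R] [IsDomain R] [Algebra A R] (χ : diagAlg 𝒜 d →ₐ[A] R)
    {b : Fin d → B} (hb : ∀ i, b i ∈ 𝒜 1) (hc : χ (pureT 𝒜 d b hb) ≠ 0) :
    ∃ e : Fin d →₀ ℕ, χ ⟨_, (orbitSum_mem hb e).1⟩ ≠ 0 := by
  classical
  by_contra hne
  push Not at hne
  let c : Fin d → Fin d → R := fun i l => coord χ hb i 1 ⟨b l, hb l⟩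
  let L : Fin d → MvPolynomial (Fin d) R := fun i => ∑ l, MvPolynomial.monomial (Finsupp.single l 1) (c i l)
  have hL : ∀ i, L i ≠ 0 := fun i h0 => by
    have := congrArg (MvPolynomial.coeff (Finsupp.single i 1)) h0
    simp only [L, MvPolynomial.coeff_sum, MvPolynomial.coeff_monomial, MvPolynomial.coeff_zero] at this
    rw [Finset.sum_eq_single i (fun l _ hl => if_neg fun e => hl (Finsupp.single_left_injective one_ne_zero e))
      (by simp), if_pos rfl] at this
    refine hc ?_
    rw [← this]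
    exact congrArg χ (pureT_congr (by simp [Function.update_eq_self_iff]))
  have hprod : ∏ i, L i ≠ 0 := Finset.prod_ne_zero_iff.2 fun i _ => hL i
  refine hprod (MvPolynomial.ext _ _ fun e => ?_)
  simp only [L, Fintype.prod_sum, ← MvPolynomial.monomial_sum_index]
  have hm : ∀ f : Fin d → Fin d, ∏ i, MvPolynomial.monomial (Finsupp.single (f i) 1) (c i (f i)) =
      MvPolynomial.monomial (∑ i, Finsupp.single (f i) 1) (∏ i, c i (f i)) := fun f => by
    induction (Finset.univ : Finset (Fin d)) using Finset.induction_on with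
    | empty => simp
    | insert a s ha ih => rw [Finset.prod_insert ha, ih, MvPolynomial.monomial_mul, Finset.sum_insert ha, Finset.prod_insert ha]
  simp only [hm, MvPolynomial.coeff_sum, MvPolynomial.coeff_monomial, MvPolynomial.coeff_zero, ← Finset.sum_filter]
  have hp : ∀ f : Fin d → Fin d, ∏ i, c i (f i) =
      χ (pureT 𝒜 d (fun i => b (f i)) fun i => hb (f i)) * χ (pureT 𝒜 d (b ^ 1) (pow_mem' hb 1)) ^ (d - 1) :=
    fun f => prod_coord χ hb (fun i => b (f i)) fun i => hb (f i)
  simp only [hp, ← Finset.sum_mul, ← map_sum]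
  rw [show (∑ f ∈ Finset.univ.filter (fun f : Fin d → Fin d => ∑ i, Finsupp.single (f i) 1 = e),
      pureT 𝒜 d (fun i => b (f i)) fun i => hb (f i)) = ⟨_, (orbitSum_mem hb e).1⟩ from
    Subtype.ext (by simp [AddSubmonoidClass.coe_finsetSum]), hne e, zero_mul]

theorem exists_scalars {d : ℕ} {R : Type u} [CommRing R] [IsDomain R] [Algebra A R]
    (hres : ∀ p : PrimeSpectrum A, (d : Cardinal) ≤ Cardinal.mk p.asIdeal.ResidueField) :
    ∃ L : Finset A, d ≤ L.card ∧ Set.InjOn (algebraMap A R) L := by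
  classical
  let p : Ideal A := RingHom.ker (algebraMap A R)
  haveI : p.IsPrime := RingHom.ker_isPrime _
  have h := hres ⟨p, inferInstance⟩
  have hcard : ∃ T : Finset (A ⧸ p), d ≤ T.card := by
    rcases finite_or_infinite (A ⧸ p) with hf | hi
    · cases nonempty_fintype (A ⧸ p)
      refine ⟨Finset.univ, ?_⟩
      have hfield : IsField (A ⧸ p) := Finite.isField_of_domain _
      have hs : Function.Surjective (algebraMap (A ⧸ p) p.ResidueField) :=
        IsFractionRing.surjective_iff_isField.2 hfield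
      have h2 := h.trans (Cardinal.mk_le_of_surjective hs)
      rw [Cardinal.mk_fintype, Nat.cast_le] at h2
      simpa using h2
    · obtain ⟨T, hT⟩ := Infinite.exists_subset_card_eq (A ⧸ p) d
      exact ⟨T, hT.ge⟩
  obtain ⟨T, hT⟩ := hcard
  let g : A ⧸ p → A := Function.surjInv Ideal.Quotient.mk_surjective
  have hg : ∀ q, Ideal.Quotient.mk p (g q) = q := Function.surjInv_eq Ideal.Quotient.mk_surjective
  refine ⟨T.image g, by rwa [Finset.card_image_of_injective _ (Function.injective_surjInv _)], ?_⟩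
  intro a ha a' ha' e
  obtain ⟨q, -, rfl⟩ := Finset.mem_image.1 ha
  obtain ⟨q', -, rfl⟩ := Finset.mem_image.1 ha'
  have : Ideal.Quotient.mk p (g q) = Ideal.Quotient.mk p (g q') := by
    rw [Ideal.Quotient.mk_eq_mk_iff_sub_mem, RingHom.mem_ker, map_sub, e, sub_self]
  rw [hg, hg] at this
  rw [this]

end Groth.Agent.SymGraded
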