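import Groth.Prelude.Def_SymTen
import Mathlib.RingTheory.GradedAlgebra.Basic
import Mathlib.RingTheory.Ideal.GoingUp
import Mathlib.RingTheory.Ideal.Quotient.Operations
import Mathlib.Algebra.Polynomial.Lifts
import Mathlib.Algebra.MvPolynomial.NoZeroDivisors
import Mathlib.LinearAlgebra.PiTensorProduct
import Mathlib.RingTheory.PiTensorProduct

/-! Points of the graded algebra of symmetric tensors. -/

set_option autoImplicit false
universe u

open scoped TensorProduct

namespace Groth.Agent.SymGraded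

variable {A B : Type u} [CommRing A] [CommRing B] [Algebra A B]
  (𝒜 : ℕ → Submodule A B) [GradedAlgebra 𝒜] (d : ℕ)

/-- The subalgebra of the tensor power spanned by multihomogeneous tensors of constant degree. -/
noncomputable abbrev diagAlg : Subalgebra A (⨂[A] _ : Fin d, B) :=
  Algebra.adjoin A {t | ∃ (k : ℕ) (b : Fin d → B), (∀ i, b i ∈ 𝒜 k) ∧ t = PiTensorProduct.tprod A b}

/-- A pure tensor of constant degree. -/
noncomputable def pureT {k : ℕ} (b : Fin d → B) (hb : ∀ i, b i ∈ 𝒜 k) : diagAlg 𝒜 d :=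
  ⟨PiTensorProduct.tprod A b, Algebra.subset_adjoin ⟨k, b, hb, rfl⟩⟩

@[simp] theorem coe_pureT {k : ℕ} (b : Fin d → B) (hb : ∀ i, b i ∈ 𝒜 k) :
    (pureT 𝒜 d b hb : ⨂[A] _ : Fin d, B) = PiTensorProduct.tprod A b := rfl

theorem mem_diagAlg_of_span {k : ℕ} {t : ⨂[A] _ : Fin d, B}
    (ht : t ∈ Submodule.span A {s | ∃ b : Fin d → B, (∀ i, b i ∈ 𝒜 k) ∧ s = PiTensorProduct.tprod A b}) :
    t ∈ diagAlg 𝒜 d :=
  (Submodule.span_le (p := Subalgebra.toSubmodule (diagAlg 𝒜 d))).2
    (fun x hx => by obtain ⟨b, hb, rfl⟩ := hx; exact (pureT 𝒜 d b hb).2) ht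

theorem pow_le : ∀ j : ℕ, 𝒜 1 ^ j ≤ 𝒜 j
  | 0 => by rw [pow_zero, Submodule.one_le]; exact SetLike.one_mem_graded 𝒜
  | j + 1 => by rw [pow_succ]; exact Submodule.mul_le.2 fun a ha b hb => SetLike.mul_mem_graded (pow_le j ha) hb

theorem mem_pow_of_mem (hgen : Algebra.adjoin A (𝒜 1 : Set B) = ⊤) {k : ℕ} {x : B} (hx : x ∈ 𝒜 k) :
    x ∈ 𝒜 1 ^ k := by
  classical
  have hle := pow_le 𝒜
  let S : Submodule A B := ⨆ j, 𝒜 1 ^ j
  have hS : ∀ y : B, y ∈ S := fun y => by
    have hy : y ∈ Algebra.adjoin A (𝒜 1 : Set B) := hgen ▸ Algebra.mem_top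
    have hmul : S * S ≤ S := by
      simp only [S, Submodule.iSup_mul, Submodule.mul_iSup, ← pow_add]
      exact iSup_le fun i => iSup_le fun j => le_iSup (fun m => 𝒜 1 ^ m) _
    induction hy using Algebra.adjoin_induction with
    | mem a ha => exact Submodule.mem_iSup_of_mem 1 (by simpa using ha)
    | algebraMap r => exact Submodule.mem_iSup_of_mem 0 (by rw [pow_zero]; exact Submodule.algebraMap_mem r)
    | add a b _ _ ha hb => exact S.add_mem ha hb
    | mul a b _ _ ha hb => exact hmul (Submodule.mul_mem_mul ha hb)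
  have key : ∀ y : B, (DirectSum.decompose 𝒜 y k : B) ∈ 𝒜 1 ^ k := fun y => by
    refine Submodule.iSup_induction (fun j => 𝒜 1 ^ j) (motive := fun y => (DirectSum.decompose 𝒜 y k : B) ∈ 𝒜 1 ^ k)
      (hS y) (fun j z hz => ?_) ?_ fun a b ha hb => ?_
    · rcases eq_or_ne j k with rfl | hne
      · rwa [DirectSum.decompose_of_mem_same 𝒜 (hle _ hz)]
      · rw [DirectSum.decompose_of_mem_ne 𝒜 (hle _ hz) hne]
        exact zero_mem _
    · simp
    · rw [DirectSum.decompose_add, DirectSum.add_apply, Submodule.coe_add]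
      exact add_mem ha hb
  simpa [DirectSum.decompose_of_mem_same 𝒜 hx] using key x

variable {𝒜 d} {R : Type u} [CommRing R] [Algebra A R] (χ : diagAlg 𝒜 d →ₐ[A] R)

theorem pureT_congr {k l : ℕ} {a b : Fin d → B} {ha : ∀ i, a i ∈ 𝒜 k} {hb : ∀ i, b i ∈ 𝒜 l} (h : a = b) :
    pureT 𝒜 d a ha = pureT 𝒜 d b hb := Subtype.ext (by simp [h])

theorem update_mem {k : ℕ} {b : Fin d → B} (hb : ∀ i, b i ∈ 𝒜 k) (i : Fin d) {x : B} (hx : x ∈ 𝒜 k) :
    ∀ j, Function.update b i x j ∈ 𝒜 k :=
  (Function.forall_update_iff b (fun _ y => y ∈ 𝒜 k)).2 ⟨hx, fun j _ => hb j⟩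

theorem pureT_mul {k l : ℕ} {a b : Fin d → B} (ha : ∀ i, a i ∈ 𝒜 k) (hb : ∀ i, b i ∈ 𝒜 l) :
    pureT 𝒜 d a ha * pureT 𝒜 d b hb = pureT 𝒜 d (a * b) fun i => SetLike.mul_mem_graded (ha i) (hb i) :=
  Subtype.ext (by simp [PiTensorProduct.tprod_mul_tprod])

theorem exists_pureT_ne_zero (hgen : Algebra.adjoin A (𝒜 1 : Set B) = ⊤) {k : ℕ} (hk : 0 < k)
    {t : diagAlg 𝒜 d}
    (ht : (t : ⨂[A] _ : Fin d, B) ∈
      Submodule.span A {s | ∃ b : Fin d → B, (∀ i, b i ∈ 𝒜 k) ∧ s = PiTensorProduct.tprod A b})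
    (hχ : χ t ≠ 0) : ∃ (b : Fin d → B) (hb : ∀ i, b i ∈ 𝒜 1), χ (pureT 𝒜 d b hb) ≠ 0 := by
  classical
  by_contra hne
  push Not at hne
  obtain ⟨k, rfl⟩ : ∃ j, k = j + 1 := ⟨k - 1, by omega⟩
  have claim : ∀ (s : Finset (Fin d)) (b : Fin d → B) (hb : ∀ i, b i ∈ 𝒜 (k + 1)),
      (∀ i ∉ s, ∃ y z, y ∈ 𝒜 1 ∧ z ∈ 𝒜 k ∧ b i = y * z) → χ (pureT 𝒜 d b hb) = 0 := by
    intro s
    induction s using Finset.induction_on with
    | empty =>
      intro b hb h
      choose y z hy hz e using fun i => h i (Finset.notMem_empty i)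
      have : pureT 𝒜 d y hy * pureT 𝒜 d z hz = pureT 𝒜 d b hb :=
        (pureT_mul hy hz).trans (pureT_congr (funext fun i => (e i).symm))
      rw [← this, map_mul, hne y hy, zero_mul]
    | insert i s hi ih =>
      intro b hb h
      have hbi : b i ∈ 𝒜 1 * 𝒜 1 ^ k := by rw [← pow_succ']; exact mem_pow_of_mem 𝒜 hgen (hb i)
      suffices ∃ hx : b i ∈ 𝒜 (k + 1), χ (pureT 𝒜 d (Function.update b i (b i)) (update_mem hb i hx)) = 0 by
        obtain ⟨hx, h'⟩ := this
        rwa [pureT_congr (hb := hb) (Function.update_eq_self i b)] at h'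
      refine Submodule.mul_induction_on (C := fun x => ∃ hx : x ∈ 𝒜 (k + 1),
        χ (pureT 𝒜 d (Function.update b i x) (update_mem hb i hx)) = 0) hbi (fun y hy z hz => ?_) ?_
      · have hz' : z ∈ 𝒜 k := SetLike.le_def.1 (show 𝒜 1 ^ k ≤ 𝒜 k from by
          exact pow_le 𝒜 k) hz
        refine ⟨add_comm 1 k ▸ SetLike.mul_mem_graded hy hz', ih _ _ fun j hj => ?_⟩
        rcases eq_or_ne j i with rfl | hji
        · exact ⟨y, z, hy, hz', Function.update_self ..⟩
        · rw [Function.update_of_ne hji]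
          exact h j (by simp [hji, hj])
      · rintro x y ⟨hx, h1⟩ ⟨hy, h2⟩
        refine ⟨add_mem hx hy, ?_⟩
        rw [show pureT 𝒜 d (Function.update b i (x + y)) (update_mem hb i (add_mem hx hy)) =
          pureT 𝒜 d _ (update_mem hb i hx) + pureT 𝒜 d _ (update_mem hb i hy) from
          Subtype.ext (by simp), map_add, h1, h2, add_zero]
  refine hχ ?_
  suffices ∀ x (hx : x ∈ Submodule.span A {s | ∃ b : Fin d → B, (∀ i, b i ∈ 𝒜 (k + 1)) ∧
      s = PiTensorProduct.tprod A b}), χ ⟨x, mem_diagAlg_of_span 𝒜 d hx⟩ = 0 from this _ ht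
  intro x hx
  induction hx using Submodule.span_induction with
  | mem x hx =>
    obtain ⟨b, hb, rfl⟩ := hx
    exact claim Finset.univ b hb fun i hi => absurd (Finset.mem_univ i) hi
  | zero => exact (congrArg χ (Subtype.ext rfl : _ = (0 : diagAlg 𝒜 d))).trans (map_zero χ)
  | add x y hx hy h1 h2 =>
    rw [show (⟨x + y, _⟩ : diagAlg 𝒜 d) = ⟨x, mem_diagAlg_of_span 𝒜 d hx⟩ + ⟨y, mem_diagAlg_of_span 𝒜 d hy⟩ from rfl,
      map_add, h1, h2, add_zero]
  | smul a x hx h1 =>
    rw [show (⟨a • x, _⟩ : diagAlg 𝒜 d) = a • ⟨x, mem_diagAlg_of_span 𝒜 d hx⟩ from rfl, map_smul, h1, smul_zero]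

variable {b : Fin d → B} (hb : ∀ i, b i ∈ 𝒜 1)

theorem pow_mem' {b : Fin d → B} (hb : ∀ i, b i ∈ 𝒜 1) (n : ℕ) : ∀ i, (b ^ n) i ∈ 𝒜 n := fun i => by
  simpa using SetLike.pow_mem_graded n (hb i)

/-- The value of a homogeneous element at the `i`-th coordinate of the point `χ`, scaled by the value at `b`. -/
noncomputable def coord (i : Fin d) (n : ℕ) : 𝒜 n →ₗ[A] R where
  toFun x := χ (pureT 𝒜 d (Function.update (b ^ n) i x.1) (update_mem (pow_mem' hb n) i x.2))
  map_add' x y := by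
    rw [← map_add]
    exact congrArg χ (Subtype.ext (by simp))
  map_smul' a x := by
    rw [RingHom.id_apply, ← map_smul]
    exact congrArg χ (Subtype.ext (by simp))

theorem coord_apply (i : Fin d) {n : ℕ} (x : 𝒜 n) : coord χ hb i n x =
    χ (pureT 𝒜 d (Function.update (b ^ n) i x.1) (update_mem (pow_mem' hb n) i x.2)) := rfl

theorem coord_self (i : Fin d) (n : ℕ) :
    coord χ hb i n ⟨b i ^ n, SetLike.mem_coe.1 (by simpa using pow_mem' hb n i)⟩ = χ (pureT 𝒜 d (b ^ n) (pow_mem' hb n)) :=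
  congrArg χ (pureT_congr (by simp [Function.update_eq_self_iff]))

theorem coord_congr (i : Fin d) {n m : ℕ} (e : n = m) (x : 𝒜 n) (y : 𝒜 m) (h : x.1 = y.1) :
    coord χ hb i n x = coord χ hb i m y := by
  subst e
  rw [Subtype.ext h]

theorem coord_mul (i : Fin d) {n m : ℕ} (x : 𝒜 n) (y : 𝒜 m) :
    coord χ hb i n x * coord χ hb i m y = coord χ hb i (n + m) ⟨x.1 * y.1, SetLike.mul_mem_graded x.2 y.2⟩ := by
  rw [coord_apply, coord_apply, coord_apply, ← map_mul, pureT_mul]
  refine congrArg χ (pureT_congr (funext fun j => ?_))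
  rcases eq_or_ne j i with rfl | h
  · simp
  · simp [h, pow_add]

theorem prod_coord {n : ℕ} (x : Fin d → B) (hx : ∀ i, x i ∈ 𝒜 n) :
    ∏ i, coord χ hb i n ⟨x i, hx i⟩ =
      χ (pureT 𝒜 d x hx) * χ (pureT 𝒜 d (b ^ n) (pow_mem' hb n)) ^ (d - 1) := by
  classical
  simp only [coord_apply]
  rw [← map_prod, ← map_pow, ← map_mul]
  refine congrArg χ (Subtype.ext ?_)
  simp only [AddSubmonoidClass.coe_finsetSum, SubmonoidClass.coe_finsetProd, SubmonoidClass.coe_pow,
    MulMemClass.coe_mul, coe_pureT]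
  rw [← PiTensorProduct.tprod_prod]
  have hp : ∀ (a : Fin d → B) (m : ℕ), PiTensorProduct.tprod A a ^ m = PiTensorProduct.tprod A (a ^ m) := by
    intro a m
    induction m with
    | zero => simp [PiTensorProduct.one_def]
    | succ m ih => rw [pow_succ, ih, PiTensorProduct.tprod_mul_tprod, pow_succ]
  rw [hp, PiTensorProduct.tprod_mul_tprod]
  refine congrArg _ (funext fun j => ?_)
  rw [Finset.prod_apply, ← Finset.mul_prod_erase _ _ (Finset.mem_univ j), Function.update_self, Pi.mul_apply,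
    Pi.pow_apply, Finset.prod_congr rfl fun i hi => Function.update_of_ne (Finset.ne_of_mem_erase hi).symm (x i) (b ^ n),
    Finset.prod_const, Finset.card_erase_of_mem (Finset.mem_univ j), Finset.card_univ, Fintype.card_fin]

variable [IsDomain R]

theorem val_pow_ne_zero (hc : χ (pureT 𝒜 d b hb) ≠ 0) (n : ℕ) : χ (pureT 𝒜 d (b ^ n) (pow_mem' hb n)) ≠ 0 := by
  have : pureT 𝒜 d (b ^ n) (pow_mem' hb n) = pureT 𝒜 d b hb ^ n := by
    refine Subtype.ext ?_
    rw [SubmonoidClass.coe_pow, coe_pureT, coe_pureT]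
    induction n with
    | zero => simp [PiTensorProduct.one_def]
    | succ m ih => rw [pow_succ (PiTensorProduct.tprod A b), ← ih, PiTensorProduct.tprod_mul_tprod, pow_succ]
  rw [this, map_pow]
  exact pow_ne_zero _ hc

/-- A homogeneous element of positive degree with nonzero coordinates. -/
theorem exists_coord_ne_zero (hc : χ (pureT 𝒜 d b hb) ≠ 0) :
    ∃ (n : ℕ) (f : 𝒜 n), 0 < n ∧ ∀ i, coord χ hb i n f ≠ 0 := by
  classical
  have key : ∀ S : Finset (Fin d), ∃ (n : ℕ) (f : 𝒜 n), 0 < n ∧ ∀ i ∈ S, coord χ hb i n f ≠ 0 := by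
    intro S
    induction S using Finset.strongInduction with
    | H S ih =>
      rcases S.eq_empty_or_nonempty with rfl | ⟨i, hi⟩
      · exact ⟨1, 0, one_pos, by simp⟩
      rcases (S.erase i).eq_empty_or_nonempty with h | ⟨i', hi'⟩
      · refine ⟨1, ⟨b i, hb i⟩, one_pos, fun j hj => ?_⟩
        obtain rfl : j = i := by_contra fun hne => Finset.notMem_empty j (h ▸ Finset.mem_erase.2 ⟨hne, hj⟩)
        rw [coord_apply, pureT_congr (hb := hb) (by simp [Function.update_eq_self_iff])]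
        exact hc
      by_contra hne
      push Not at hne
      choose n f hn hf using fun j : S => ih (S.erase j.1) (Finset.erase_ssubset j.2)
      have hzero : ∀ j : S, coord χ hb j.1 (n j) (f j) = 0 := fun j => by
        obtain ⟨l, hl, hl0⟩ := hne (n j) (f j) (hn j)
        rcases eq_or_ne l j.1 with rfl | h
        · exact hl0
        · exact absurd hl0 (hf j l (Finset.mem_erase.2 ⟨h, hl⟩))
      let p : Fin d → Prop := fun l => l ∈ S
      have hpow : ∀ (l : Fin d) {m : ℕ} (x : 𝒜 m) (e : ℕ), 0 < e → ∀ (he : x.1 ^ e ∈ 𝒜 (e * m)),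
          (coord χ hb l (e * m) ⟨x.1 ^ e, he⟩ = 0 ↔ coord χ hb l m x = 0) := by
        intro l m x e he0
        obtain ⟨e, rfl⟩ : ∃ e', e = e' + 1 := ⟨e - 1, by omega⟩
        clear he0
        intro he
        suffices coord χ hb l ((e + 1) * m) ⟨x.1 ^ (e + 1), he⟩ = coord χ hb l m x ^ (e + 1) by
          rw [this, pow_eq_zero_iff (Nat.succ_ne_zero e)]
        induction e with
        | zero => exact (coord_congr χ hb l (by ring) _ x (pow_one _)).trans (pow_one _).symm
        | succ e ih =>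
          rw [pow_succ (coord χ hb l m x), ← ih (by simpa using SetLike.pow_mem_graded (e + 1) x.2), coord_mul]
          exact coord_congr χ hb l (by ring) _ _ (pow_succ _ _)
      let others : Finset S := Finset.univ.erase ⟨i, hi⟩
      let N := ∑ j ∈ others, n j
      let h : B := ∏ j ∈ others, (f j).1
      have hh : h ∈ 𝒜 N := SetLike.prod_mem_graded (A := 𝒜) n (fun j => (f j).1) (fun j _ => (f j).2)
      have hprod : ∀ (l : Fin d) (s : Finset S), s.Nonempty →
          ∀ (hs : ∏ j ∈ s, (f j).1 ∈ 𝒜 (∑ j ∈ s, n j)),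
          coord χ hb l (∑ j ∈ s, n j) ⟨_, hs⟩ = ∏ j ∈ s, coord χ hb l (n j) (f j) := by
        intro l s hs
        induction hs using Finset.Nonempty.cons_induction with
        | singleton a =>
          intro _
          exact (coord_congr χ hb l (Finset.sum_singleton _ _) _ (f a) (Finset.prod_singleton _ _)).trans
            (Finset.prod_singleton _ _).symm
        | cons a s ha hs ih =>
          intro _
          rw [Finset.prod_cons (f := fun j => coord χ hb l (n j) (f j)),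
            ← ih (SetLike.prod_mem_graded (A := 𝒜) n _ fun j _ => (f j).2), coord_mul]
          exact coord_congr χ hb l (Finset.sum_cons _) _ _ (Finset.prod_cons _)
      have hothers : others.Nonempty :=
        ⟨⟨i', Finset.mem_of_mem_erase hi'⟩, Finset.mem_erase.2
          ⟨fun e => Finset.ne_of_mem_erase hi' (congrArg Subtype.val e), Finset.mem_univ _⟩⟩
      have hN : 0 < N := lt_of_lt_of_le (hn hothers.choose) (Finset.single_le_sum (f := n) (fun _ _ => Nat.zero_le _) hothers.choose_spec)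
      let i₀ : S := ⟨i, hi⟩
      have m1 : (f i₀).1 ^ N ∈ 𝒜 (N * n i₀) := by simpa using SetLike.pow_mem_graded N (f i₀).2
      have m2 : h ^ n i₀ ∈ 𝒜 (n i₀ * N) := by simpa using SetLike.pow_mem_graded (n i₀) hh
      have m2' : h ^ n i₀ ∈ 𝒜 (N * n i₀) := mul_comm (n i₀) N ▸ m2
      obtain ⟨l, hl, hl0⟩ := hne (N * n i₀) (⟨_, m1⟩ + ⟨_, m2'⟩) (Nat.mul_pos hN (hn i₀))
      rw [map_add] at hl0
      have e2 : coord χ hb l (N * n i₀) ⟨_, m2'⟩ = coord χ hb l (n i₀ * N) ⟨_, m2⟩ := by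
        exact coord_congr χ hb l (mul_comm _ _) _ _ rfl
      rcases eq_or_ne l i with rfl | hli
      · rw [(hpow l (f i₀) N hN m1).2 (hzero i₀), zero_add, e2, hpow l ⟨h, hh⟩ (n i₀) (hn i₀) m2,
          hprod l others hothers, Finset.prod_eq_zero_iff] at hl0
        obtain ⟨j, hj, hj0⟩ := hl0
        exact hf j l (Finset.mem_erase.2 ⟨fun e => (Finset.mem_erase.1 hj).1 (Subtype.ext e.symm), hl⟩) hj0
      · have h0 : coord χ hb l (n i₀ * N) ⟨_, m2⟩ = 0 := by
          rw [hpow l ⟨h, hh⟩ (n i₀) (hn i₀) m2, hprod l others hothers]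
          exact Finset.prod_eq_zero (Finset.mem_erase.2 ⟨fun e => hli (congrArg Subtype.val e), Finset.mem_univ _⟩)
            (hzero ⟨l, hl⟩)
        rw [e2, h0, add_zero, hpow l (f i₀) N hN m1] at hl0
        exact hf i₀ l (Finset.mem_erase.2 ⟨hli, hl⟩) hl0
  obtain ⟨n, f, hn, hf⟩ := key Finset.univ
  exact ⟨n, f, hn, fun i => hf i (Finset.mem_univ i)⟩

/-- A degree-one element with nonzero coordinates, given enough scalars. -/
theorem exists_coord_one_ne_zero (hc : χ (pureT 𝒜 d b hb) ≠ 0) (L : Finset A) (hL : d ≤ L.card)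
    (hinj : Set.InjOn (algebraMap A R) L) : ∃ f : 𝒜 1, ∀ i, coord χ hb i 1 f ≠ 0 := by
  classical
  have key : ∀ S : Finset (Fin d), ∃ f : 𝒜 1, ∀ i ∈ S, coord χ hb i 1 f ≠ 0 := by
    intro S
    induction S using Finset.induction_on with
    | empty => exact ⟨0, by simp⟩
    | insert i S hi ih =>
      obtain ⟨f, hf⟩ := ih
      let g : 𝒜 1 := ⟨b i, hb i⟩
      have hg : coord χ hb i 1 g ≠ 0 := by
        rw [coord_apply, pureT_congr (hb := hb) (by simp [g, Function.update_eq_self_iff])]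
        exact hc
      by_contra hne
      push Not at hne
      have hfi : coord χ hb i 1 f = 0 := by
        obtain ⟨l, hl, hl0⟩ := hne f
        rcases Finset.mem_insert.1 hl with rfl | hl
        · exact hl0
        · exact absurd hl0 (hf l hl)
      obtain ⟨l₀, hl₀, hg0⟩ := hne g
      have hl₀S : l₀ ∈ S := (Finset.mem_insert.1 hl₀).resolve_left fun e => hg (e ▸ hg0)
      choose! bad hbad hbad0 using fun a : A => hne (f + a • g)
      have hmaps : Set.MapsTo bad (L : Set A) ((insert i S).erase l₀ : Finset _) := fun a _ => by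
        refine Finset.mem_coe.2 (Finset.mem_erase.2 ⟨fun e => ?_, hbad a⟩)
        have := hbad0 a
        rw [e, map_add, map_smul, hg0, smul_zero, add_zero] at this
        exact hf l₀ hl₀S this
      have hinj' : Set.InjOn bad (L : Set A) := fun a ha a' ha' e => by
        have h1 := hbad0 a
        have h2 := hbad0 a'
        rw [← e] at h2
        simp only [map_add, map_smul, Algebra.smul_def] at h1 h2
        have hg' : coord χ hb (bad a) 1 g ≠ 0 := fun h0 => by
          rw [h0, mul_zero, add_zero] at h1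
          rcases Finset.mem_insert.1 (hbad a) with e' | e'
          · exact hg (e' ▸ h0)
          · exact hf _ e' h1
        exact hinj ha ha' (mul_right_cancel₀ hg' (add_left_cancel (h1.trans h2.symm)))
      have hcard := Finset.card_le_card_of_injOn bad hmaps hinj'
      rw [Finset.card_erase_of_mem hl₀, Finset.card_insert_of_notMem hi] at hcard
      have hS : (insert i S).card ≤ d := (Finset.card_le_univ _).trans_eq (Fintype.card_fin d)
      rw [Finset.card_insert_of_notMem hi] at hS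
      omega
  obtain ⟨f, hf⟩ := key Finset.univ
  exact ⟨f, fun i => hf i (Finset.mem_univ i)⟩

omit [IsDomain R] in
theorem tensor_ne_zero_of_coord [IsDomain R] {n : ℕ} (f : 𝒜 n) (hf : ∀ i, coord χ hb i n f ≠ 0) :
    χ (pureT 𝒜 d (fun _ => f.1) fun _ => f.2) ≠ 0 := by
  intro h
  have := prod_coord χ hb (fun _ : Fin d => f.1) (fun _ => f.2)
  rw [h, zero_mul, Finset.prod_eq_zero_iff] at this
  obtain ⟨i, -, hi⟩ := this
  exact hf i hi

end Groth.Agent.SymGraded
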